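import Groth.Agent.Lib.DerTrunc.Basic
import Mathlib.Algebra.Homology.DerivedCategory.ExactFunctor
import Mathlib.Algebra.Homology.DerivedCategory.HomologySequence
import Mathlib.CategoryTheory.Triangulated.Adjunction

/-! Dévissage for natural transformations of triangulated functors on derived categories. -/

set_option autoImplicit false
set_option linter.style.haveILetI false
set_option linter.unusedSectionVars false
set_option backward.isDefEq.respectTransparency false
set_option backward.isDefEq.respectTransparency.types false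

universe w w' v v' u u'

open CategoryTheory CategoryTheory.Limits CategoryTheory.Pretriangulated CategoryTheory.Triangulated
open DerivedCategory.TStructure

namespace Groth.Agent.WayOut

variable {A : Type u} [Category.{v} A] [Abelian A] [HasDerivedCategory.{w} A]
  {B : Type u'} [Category.{v'} B] [Abelian B] [HasDerivedCategory.{w'} B]

section NatTrans

variable {T : Type*} [Category* T] [HasZeroObject T] [HasShift T ℤ] [Preadditive T]
  [∀ n : ℤ, (shiftFunctor T n).Additive] [Pretriangulated T]
  {T' : Type*} [Category* T'] [HasZeroObject T'] [HasShift T' ℤ] [Preadditive T']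
  [∀ n : ℤ, (shiftFunctor T' n).Additive] [Pretriangulated T']
  {G H : T ⥤ T'} [G.CommShift ℤ] [H.CommShift ℤ] (τ : G ⟶ H) [NatTrans.CommShift τ ℤ]

/-- The morphism of triangles given by a natural transformation. -/
@[simps]
noncomputable def mapTriangleHom (X : Triangle T) : G.mapTriangle.obj X ⟶ H.mapTriangle.obj X where
  hom₁ := τ.app _
  hom₂ := τ.app _
  hom₃ := τ.app _
  comm₁ := τ.naturality _
  comm₂ := τ.naturality _
  comm₃ := by
    change (G.map X.mor₃ ≫ (G.commShiftIso (1 : ℤ)).hom.app X.obj₁) ≫ (τ.app X.obj₁)⟦(1 : ℤ)⟧' =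
      τ.app X.obj₃ ≫ H.map X.mor₃ ≫ (H.commShiftIso (1 : ℤ)).hom.app X.obj₁
    rw [Category.assoc, NatTrans.shift_app_comm, τ.naturality_assoc]

theorem isIso_app_shift_iff (X : T) (n : ℤ) : IsIso (τ.app (X⟦n⟧)) ↔ IsIso (τ.app X) := by
  rw [NatTrans.app_shift τ n X, isIso_comp_left_iff, isIso_comp_right_iff]
  exact ⟨fun h => isIso_of_reflects_iso (τ.app X) (shiftFunctor T' n), fun h => inferInstance⟩

variable [G.IsTriangulated] [H.IsTriangulated]

theorem isIso_app₂ (X : Triangle T) (hX : X ∈ distTriang T) (h₁ : IsIso (τ.app X.obj₁))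
    (h₃ : IsIso (τ.app X.obj₃)) : IsIso (τ.app X.obj₂) :=
  isIso₂_of_isIso₁₃ (mapTriangleHom τ X) (G.map_distinguished X hX) (H.map_distinguished X hX) h₁ h₃

end NatTrans

section Devissage

variable {G H : DerivedCategory A ⥤ DerivedCategory B} [G.CommShift ℤ] [H.CommShift ℤ]
  [G.IsTriangulated] [H.IsTriangulated] (τ : G ⟶ H) [NatTrans.CommShift τ ℤ]

local notation "HH" => DerivedCategory.homologyFunctor A
local notation "SF" => DerivedCategory.singleFunctor A

theorem isIso_app_single (M : A) (n : ℤ) (h : IsIso (τ.app ((SF 0).obj M))) :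
    IsIso (τ.app ((SF n).obj M)) := by
  rw [← NatTrans.isIso_app_iff_of_iso τ
    (((DerivedCategory.singleFunctors A).shiftIso n 0 n (add_zero n)).app M)] at h
  exact (isIso_app_shift_iff τ _ n).1 h

theorem isIso_app_concentrated (X : DerivedCategory A) (n : ℤ) [X.IsGE n] [X.IsLE n]
    (h : IsIso (τ.app ((SF 0).obj ((HH n).obj X)))) : IsIso (τ.app X) := by
  obtain ⟨M, ⟨e⟩⟩ := DerivedCategory.exists_iso_singleFunctor_obj_of_isGE_of_isLE X n
  rw [NatTrans.isIso_app_iff_of_iso τ e]
  refine isIso_app_single τ M n ?_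
  exact (NatTrans.isIso_app_iff_of_iso τ ((SF 0).mapIso ((HH n).mapIso e ≪≫
    (DerivedCategory.singleFunctorCompHomologyFunctorIso A n).app M))).1 h

theorem isIso_app_of_isZero (X : DerivedCategory A) (hX : IsZero X) : IsIso (τ.app X) :=
  isIso_of_source_target_iso_zero (τ.app X) (G.map_isZero hX).isoZero (H.map_isZero hX).isoZero

theorem isIso_app_bounded (k : ℕ) : ∀ (X : DerivedCategory A) (a : ℤ), X.IsGE a → X.IsLE (a + k) →
    (∀ q, IsIso (τ.app ((SF 0).obj ((HH q).obj X)))) → IsIso (τ.app X) := by
  induction k with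
  | zero =>
    intro X a ha hb h
    have : X.IsLE a := by simpa using hb
    exact isIso_app_concentrated τ X a (h a)
  | succ k ih =>
    intro X a ha hb h
    obtain ⟨b, hbdef⟩ : ∃ b : ℤ, a + (k + 1 : ℕ) = b := ⟨_, rfl⟩
    rw [hbdef] at hb
    have hL : DerivedCategory.IsLE ((t.truncLT b).obj X) (a + k) :=
      t.isLE_truncLT_obj X b (a + k) (by lia)
    have hG : DerivedCategory.IsGE ((t.truncLT b).obj X) a :=
      (inferInstance : t.IsGE ((t.truncLT b).obj X) a)
    have hG₃ : DerivedCategory.IsGE ((t.truncGE b).obj X) b :=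
      (inferInstance : t.IsGE ((t.truncGE b).obj X) b)
    have hL₃ : DerivedCategory.IsLE ((t.truncGE b).obj X) b :=
      (inferInstance : t.IsLE ((t.truncGE b).obj X) b)
    refine isIso_app₂ τ _ (t.triangleLTGE_distinguished b X) (ih _ a hG hL fun q => ?_)
      (isIso_app_concentrated τ ((t.truncGE b).obj X) b ?_)
    · change IsIso (τ.app ((SF 0).obj ((HH q).obj ((t.truncLT b).obj X))))
      by_cases hq : q < b
      · have := DerTrunc.isIso_homology_truncLTι X b q hq
        rw [NatTrans.isIso_app_iff_of_iso τ ((SF 0).mapIso (asIso ((HH q).map ((t.truncLTι b).app X))))]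
        exact h q
      · refine isIso_app_of_isZero τ _ ?_
        exact Functor.map_isZero _ (DerivedCategory.isZero_of_isLE _ (a + k) q (by lia))
    · have := DerTrunc.isIso_homology_truncGEπ X b b le_rfl
      rw [← NatTrans.isIso_app_iff_of_iso τ ((SF 0).mapIso (asIso ((HH b).map ((t.truncGEπ b).app X))))]
      exact h b

/-- A natural transformation of left exact triangulated functors is invertible on a bounded below
object when it is invertible on its cohomology objects. -/
theorem isIso_app_of_isGE
    (hG : ∀ (X : DerivedCategory A) (m : ℤ), X.IsGE m → (G.obj X).IsGE m)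
    (hH : ∀ (X : DerivedCategory A) (m : ℤ), X.IsGE m → (H.obj X).IsGE m)
    (X : DerivedCategory A) (n₀ : ℤ) (hX : X.IsGE n₀)
    (h : ∀ q, IsIso (τ.app ((SF 0).obj ((HH q).obj X)))) : IsIso (τ.app X) := by
  rw [DerivedCategory.isIso_iff]
  intro q
  obtain ⟨m, hm⟩ : ∃ m : ℤ, max n₀ q + 2 = m := ⟨_, rfl⟩
  have hL : DerivedCategory.IsLE ((t.truncLT m).obj X) (m - 1) :=
    (inferInstance : t.IsLE ((t.truncLT m).obj X) (m - 1))
  have hG₁ : DerivedCategory.IsGE ((t.truncLT m).obj X) n₀ :=
    (inferInstance : t.IsGE ((t.truncLT m).obj X) n₀)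
  have hG₃ : DerivedCategory.IsGE ((t.truncGE m).obj X) m :=
    (inferInstance : t.IsGE ((t.truncGE m).obj X) m)
  have hiso : IsIso (τ.app ((t.truncLT m).obj X)) := by
    refine isIso_app_bounded τ (m - 1 - n₀).toNat _ n₀ hG₁
      (t.isLE_of_le _ (m - 1) _ (by lia)) fun i => ?_
    by_cases hi : i < m
    · have := DerTrunc.isIso_homology_truncLTι X m i hi
      rw [NatTrans.isIso_app_iff_of_iso τ ((SF 0).mapIso (asIso ((HH i).map ((t.truncLTι m).app X))))]
      exact h i
    · exact isIso_app_of_isZero τ _
        (Functor.map_isZero _ (DerivedCategory.isZero_of_isLE _ (m - 1) i (by lia)))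
  have hz : ∀ (K : DerivedCategory A ⥤ DerivedCategory B) [K.CommShift ℤ] [K.IsTriangulated],
      (∀ (X : DerivedCategory A) (m : ℤ), X.IsGE m → (K.obj X).IsGE m) →
      IsIso ((DerivedCategory.homologyFunctor B q).map (K.map ((t.truncLTι m).app X))) := by
    intro K _ _ hK
    have := hK _ m hG₃
    exact DerTrunc.isIso_map_mor₁ _ (K.map_distinguished _ (t.triangleLTGE_distinguished m X)) q
      (DerivedCategory.isZero_of_isGE (K.obj ((t.truncGE m).obj X)) m _ (by lia))
      (DerivedCategory.isZero_of_isGE (K.obj ((t.truncGE m).obj X)) m _ (by lia))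
  have := hz G hG
  have := hz H hH
  have hnat := congrArg (DerivedCategory.homologyFunctor B q).map (τ.naturality ((t.truncLTι m).app X))
  simp only [Functor.map_comp] at hnat
  have : IsIso ((DerivedCategory.homologyFunctor B q).map (G.map ((t.truncLTι m).app X)) ≫
      (DerivedCategory.homologyFunctor B q).map (τ.app X)) := by
    erw [hnat]; infer_instance
  exact IsIso.of_isIso_comp_left ((DerivedCategory.homologyFunctor B q).map (G.map ((t.truncLTι m).app X))) _

end Devissage

section Exact

variable (F : A ⥤ B) [F.Additive] [PreservesFiniteLimits F] [PreservesFiniteColimits F]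

noncomputable instance liftingHomology (n : ℤ) :
    Localization.Lifting DerivedCategory.Q (HomologicalComplex.quasiIso A (ComplexShape.up ℤ))
      (F.mapHomologicalComplex (ComplexShape.up ℤ) ⋙ HomologicalComplex.homologyFunctor B (ComplexShape.up ℤ) n)
      (F.mapDerivedCategory ⋙ DerivedCategory.homologyFunctor B n) :=
  ⟨(Functor.associator _ _ _).symm ≪≫ Functor.isoWhiskerRight F.mapDerivedCategoryFactors _ ≪≫
    Functor.associator _ _ _ ≪≫ Functor.isoWhiskerLeft _ (DerivedCategory.homologyFunctorFactors B n)⟩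

noncomputable instance liftingHomology' (n : ℤ) :
    Localization.Lifting DerivedCategory.Q (HomologicalComplex.quasiIso A (ComplexShape.up ℤ))
      (HomologicalComplex.homologyFunctor A (ComplexShape.up ℤ) n ⋙ F)
      (DerivedCategory.homologyFunctor A n ⋙ F) :=
  ⟨(Functor.associator _ _ _).symm ≪≫ Functor.isoWhiskerRight (DerivedCategory.homologyFunctorFactors A n) F⟩

/-- An exact functor commutes with cohomology. -/
noncomputable def mapDerivedHomologyIso (n : ℤ) :
    F.mapDerivedCategory ⋙ DerivedCategory.homologyFunctor B n ≅ DerivedCategory.homologyFunctor A n ⋙ F :=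
  Localization.liftNatIso DerivedCategory.Q (HomologicalComplex.quasiIso A (ComplexShape.up ℤ))
    (F.mapHomologicalComplex (ComplexShape.up ℤ) ⋙ HomologicalComplex.homologyFunctor B (ComplexShape.up ℤ) n)
    (HomologicalComplex.homologyFunctor A (ComplexShape.up ℤ) n ⋙ F)
    _ _
    (NatIso.ofComponents
      (fun K => (K.sc n).mapHomologyIso F)
      (fun f => ShortComplex.mapHomologyIso_hom_naturality
        ((HomologicalComplex.shortComplexFunctor A (ComplexShape.up ℤ) n).map f) F))

theorem isGE_mapDerivedCategory (X : DerivedCategory A) (m : ℤ) [X.IsGE m] :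
    (F.mapDerivedCategory.obj X).IsGE m := by
  rw [DerivedCategory.isGE_iff]
  exact fun i hi => (F.map_isZero (DerivedCategory.isZero_of_isGE X m i hi)).of_iso
    ((mapDerivedHomologyIso F i).app X)

theorem isLE_mapDerivedCategory (X : DerivedCategory A) (m : ℤ) [X.IsLE m] :
    (F.mapDerivedCategory.obj X).IsLE m := by
  rw [DerivedCategory.isLE_iff]
  exact fun i hi => (F.map_isZero (DerivedCategory.isZero_of_isLE X m i hi)).of_iso
    ((mapDerivedHomologyIso F i).app X)

variable {R : DerivedCategory B ⥤ DerivedCategory A} (adj : F.mapDerivedCategory ⊣ R)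

include adj in
theorem isGE_rightAdjoint (Y : DerivedCategory B) (m : ℤ) [Y.IsGE m] : (R.obj Y).IsGE m := by
  refine (t.isGE_iff_orthogonal (m - 1) m (by lia) (R.obj Y)).2 fun Z f hZ => ?_
  have := isLE_mapDerivedCategory F Z (m - 1)
  apply (adj.homEquiv Z Y).symm.injective
  rw [t.zero ((adj.homEquiv Z Y).symm f) (m - 1) m (by lia)]
  haveI : R.PreservesZeroMorphisms := by
    haveI := adj.right_adjoint_additive
    infer_instance
  symm
  rw [Adjunction.homEquiv_counit, Functor.map_zero, zero_comp]

theorem isIso_unit_of_isGE (X : DerivedCategory A) (n₀ : ℤ) (hX : X.IsGE n₀)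
    (h : ∀ q, IsIso (adj.unit.app ((DerivedCategory.singleFunctor A 0).obj
      ((DerivedCategory.homologyFunctor A q).obj X)))) :
    IsIso (adj.unit.app X) := by
  letI := adj.rightAdjointCommShift ℤ
  haveI := adj.commShift_of_leftAdjoint ℤ
  haveI := adj.isTriangulated_rightAdjoint
  exact isIso_app_of_isGE adj.unit (fun _ _ h => h)
    (fun Z m _ => have := isGE_mapDerivedCategory F Z m; isGE_rightAdjoint F adj _ m) X n₀ hX h

theorem isIso_counit_of_isGE (Y : DerivedCategory B) (n₀ : ℤ) (hY : Y.IsGE n₀)
    (h : ∀ q, IsIso (adj.counit.app ((DerivedCategory.singleFunctor B 0).obj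
      ((DerivedCategory.homologyFunctor B q).obj Y)))) :
    IsIso (adj.counit.app Y) := by
  letI := adj.rightAdjointCommShift ℤ
  haveI := adj.commShift_of_leftAdjoint ℤ
  haveI := adj.isTriangulated_rightAdjoint
  exact isIso_app_of_isGE adj.counit
    (fun Z m _ => have := isGE_rightAdjoint F adj Z m; isGE_mapDerivedCategory F _ m) (fun _ _ h => h)
    Y n₀ hY h

end Exact

end Groth.Agent.WayOut
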