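import Groth.Agent.Lib.SiteCmp16.WayOut
import Groth.Prelude.Def_WeakSerre

/-! Derived categories with cohomology in a weak Serre subcategory, under derived adjunctions. -/

set_option autoImplicit false
set_option linter.style.haveILetI false
set_option linter.unusedSectionVars false
set_option backward.isDefEq.respectTransparency false
set_option backward.isDefEq.respectTransparency.types false

universe w w' v v' u u'

open CategoryTheory CategoryTheory.Limits CategoryTheory.Pretriangulated CategoryTheory.Triangulated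
open DerivedCategory.TStructure

namespace Groth.Agent.WayOut

variable {A : Type u} [Category.{v} A] [Abelian A] [HasDerivedCategory.{w} A]
  (P : ObjectProperty A) [WSerre.IsWeakSerre P]

local notation "HH" => DerivedCategory.homologyFunctor A

/-- The five term criterion. -/
theorem prop_of_five {X₀ X₁ X₂ X₃ X₄ : A} (a : X₀ ⟶ X₁) (b : X₁ ⟶ X₂) (c : X₂ ⟶ X₃) (d : X₃ ⟶ X₄)
    (wab : a ≫ b = 0) (wbc : b ≫ c = 0) (wcd : c ≫ d = 0)
    (hab : (ShortComplex.mk a b wab).Exact) (hbc : (ShortComplex.mk b c wbc).Exact)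
    (hcd : (ShortComplex.mk c d wcd).Exact) (h₀ : P X₀) (h₁ : P X₁) (h₃ : P X₃) (h₄ : P X₄) : P X₂ := by
  haveI : Mono (cokernel.desc a b wab) := (ShortComplex.exact_iff_mono_cokernel_desc _).1 hab
  haveI : Epi (kernel.lift d c wcd) := (ShortComplex.exact_iff_epi_kernel_lift _).1 hcd
  let S := ShortComplex.mk (cokernel.desc a b wab) (kernel.lift d c wcd) (by
    ext
    simp [wbc])
  let φ : ShortComplex.mk b c wbc ⟶ ShortComplex.mk (cokernel.desc a b wab) c (by ext; simp [wbc]) :=
    { τ₁ := cokernel.π a, τ₂ := 𝟙 _, τ₃ := 𝟙 _ }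
  let ψ : S ⟶ ShortComplex.mk (cokernel.desc a b wab) c (by ext; simp [wbc]) :=
    { τ₁ := 𝟙 _, τ₂ := 𝟙 _, τ₃ := kernel.ι d }
  haveI : Epi φ.τ₁ := inferInstanceAs (Epi (cokernel.π a))
  haveI : IsIso φ.τ₂ := inferInstanceAs (IsIso (𝟙 _))
  haveI : Mono φ.τ₃ := inferInstanceAs (Mono (𝟙 _))
  haveI : Epi ψ.τ₁ := inferInstanceAs (Epi (𝟙 _))
  haveI : IsIso ψ.τ₂ := inferInstanceAs (IsIso (𝟙 _))
  haveI : Mono ψ.τ₃ := inferInstanceAs (Mono (kernel.ι d))
  have hS : S.Exact := (ShortComplex.exact_iff_of_epi_of_isIso_of_mono ψ).2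
    ((ShortComplex.exact_iff_of_epi_of_isIso_of_mono φ).1 hbc)
  exact P.prop_X₂_of_shortExact (ShortComplex.ShortExact.mk' hS inferInstance inferInstance)
    (P.prop_cokernel a h₀ h₁) (P.prop_kernel d h₃ h₄)

theorem cohIn_obj₂ (T : Triangle (DerivedCategory A)) (hT : T ∈ distTriang _)
    (h₁ : WSerre.cohIn P T.obj₁) (h₃ : WSerre.cohIn P T.obj₃) : WSerre.cohIn P T.obj₂ := fun q =>
  prop_of_five P _ _ _ _ _ _ _ (DerivedCategory.HomologySequence.exact₁ T hT (q - 1) q (by lia))
    (DerivedCategory.HomologySequence.exact₂ T hT q)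
    (DerivedCategory.HomologySequence.exact₃ T hT q (q + 1) rfl)
    (h₃ (q - 1)) (h₁ q) (h₃ q) (h₁ (q + 1))

theorem cohIn_of_iso {X Y : DerivedCategory A} (e : X ≅ Y) (h : WSerre.cohIn P X) : WSerre.cohIn P Y :=
  fun q => P.prop_of_iso ((HH q).mapIso e) (h q)

theorem cohIn_shift {X : DerivedCategory A} (n : ℤ) (h : WSerre.cohIn P X) : WSerre.cohIn P (X⟦n⟧) :=
  fun q => P.prop_of_iso
    ((((HH 0).shiftIso n q (n + q) rfl).app X).symm) (h (n + q))

theorem cohIn_single {M : A} (h : P M) (n : ℤ) :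
    WSerre.cohIn P ((DerivedCategory.singleFunctor A n).obj M) := by
  intro q
  rcases eq_or_ne q n with rfl | hq
  · exact P.prop_of_iso ((DerivedCategory.singleFunctorCompHomologyFunctorIso A q).app M).symm h
  · obtain ⟨Z, hZ, hPZ⟩ := P.exists_prop_of_containsZero
    have hz : IsZero ((HH q).obj ((DerivedCategory.singleFunctor A n).obj M)) := by
      rcases lt_or_gt_of_ne hq with h | h
      · exact DerivedCategory.isZero_of_isGE _ n q h
      · exact DerivedCategory.isZero_of_isLE _ n q h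
    exact P.prop_of_iso (hZ.iso hz) hPZ

variable {B : Type u'} [Category.{v'} B] [Abelian B] [HasDerivedCategory.{w'} B]
  (Q : ObjectProperty B)

/-- A left exact triangulated functor sending objects of `Q` in degree zero to `D_P` preserves bounded below
cohomology in `Q`. -/
theorem cohIn_obj_of_isGE (R : DerivedCategory B ⥤ DerivedCategory A) [R.CommShift ℤ] [R.IsTriangulated]
    (hR : ∀ (Y : DerivedCategory B) (m : ℤ), Y.IsGE m → (R.obj Y).IsGE m)
    [WSerre.IsWeakSerre Q]
    (h : ∀ M, Q M → WSerre.cohIn P (R.obj ((DerivedCategory.singleFunctor B 0).obj M)))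
    (Y : DerivedCategory B) (n₀ : ℤ) (hY : Y.IsGE n₀) (hQ : WSerre.cohIn Q Y) :
    WSerre.cohIn P (R.obj Y) := by
  have hconc : ∀ (Z : DerivedCategory B) (n : ℤ), Z.IsGE n → Z.IsLE n →
      Q ((DerivedCategory.homologyFunctor B n).obj Z) → WSerre.cohIn P (R.obj Z) := by
    intro Z n _ _ hZ
    obtain ⟨M, ⟨e⟩⟩ := DerivedCategory.exists_iso_singleFunctor_obj_of_isGE_of_isLE Z n
    have hM : Q M := Q.prop_of_iso ((DerivedCategory.homologyFunctor B n).mapIso e ≪≫
      (DerivedCategory.singleFunctorCompHomologyFunctorIso B n).app M) hZ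
    let e₁ := ((DerivedCategory.singleFunctors B).shiftIso n 0 n (add_zero n)).app M
    have h1 := cohIn_of_iso P (R.mapIso e₁.symm ≪≫ (R.commShiftIso n).app _) (h M hM)
    have h2 := cohIn_shift P (-n) h1
    exact cohIn_of_iso P (((shiftEquiv (DerivedCategory A) n).unitIso.app _).symm ≪≫ R.mapIso e.symm) h2
  have hbdd : ∀ (k : ℕ) (Z : DerivedCategory B) (a : ℤ), Z.IsGE a → Z.IsLE (a + k) → WSerre.cohIn Q Z →
      WSerre.cohIn P (R.obj Z) := by
    intro k
    induction k with
    | zero =>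
      intro Z a ha hb hZ
      exact hconc Z a ha (by simpa using hb) (hZ a)
    | succ k ih =>
      intro Z a ha hb hZ
      obtain ⟨b, hbdef⟩ : ∃ b : ℤ, a + (k + 1 : ℕ) = b := ⟨_, rfl⟩
      rw [hbdef] at hb
      have hL : DerivedCategory.IsLE ((t.truncLT b).obj Z) (a + k) :=
        t.isLE_truncLT_obj Z b (a + k) (by lia)
      have hG : DerivedCategory.IsGE ((t.truncLT b).obj Z) a :=
        (inferInstance : t.IsGE ((t.truncLT b).obj Z) a)
      have hG₃ : DerivedCategory.IsGE ((t.truncGE b).obj Z) b :=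
        (inferInstance : t.IsGE ((t.truncGE b).obj Z) b)
      have hL₃ : DerivedCategory.IsLE ((t.truncGE b).obj Z) b :=
        (inferInstance : t.IsLE ((t.truncGE b).obj Z) b)
      refine cohIn_obj₂ P _ (R.map_distinguished _ (t.triangleLTGE_distinguished b Z))
        (ih _ a hG hL fun q => ?_) (hconc ((t.truncGE b).obj Z) b hG₃ hL₃ ?_)
      · change Q ((DerivedCategory.homologyFunctor B q).obj ((t.truncLT b).obj Z))
        by_cases hq : q < b
        · have := DerTrunc.isIso_homology_truncLTι Z b q hq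
          exact Q.prop_of_iso (asIso ((DerivedCategory.homologyFunctor B q).map ((t.truncLTι b).app Z))).symm (hZ q)
        · obtain ⟨Z₀, hZ₀, hQ₀⟩ := Q.exists_prop_of_containsZero
          exact Q.prop_of_iso (hZ₀.iso (DerivedCategory.isZero_of_isLE _ (a + k) q (by lia))) hQ₀
      · have := DerTrunc.isIso_homology_truncGEπ Z b b le_rfl
        exact Q.prop_of_iso (asIso ((DerivedCategory.homologyFunctor B b).map ((t.truncGEπ b).app Z))) (hZ b)
  intro q
  obtain ⟨m, hm⟩ : ∃ m : ℤ, max n₀ q + 2 = m := ⟨_, rfl⟩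
  have hL : DerivedCategory.IsLE ((t.truncLT m).obj Y) (m - 1) :=
    (inferInstance : t.IsLE ((t.truncLT m).obj Y) (m - 1))
  have hG₁ : DerivedCategory.IsGE ((t.truncLT m).obj Y) n₀ :=
    (inferInstance : t.IsGE ((t.truncLT m).obj Y) n₀)
  have hG₃ : DerivedCategory.IsGE ((t.truncGE m).obj Y) m :=
    (inferInstance : t.IsGE ((t.truncGE m).obj Y) m)
  have := hR _ m hG₃
  have : IsIso ((HH q).map (R.map ((t.truncLTι m).app Y))) := DerTrunc.isIso_map_mor₁ _ (R.map_distinguished _ (t.triangleLTGE_distinguished m Y)) q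
    (DerivedCategory.isZero_of_isGE (R.obj ((t.truncGE m).obj Y)) m _ (by lia))
    (DerivedCategory.isZero_of_isGE (R.obj ((t.truncGE m).obj Y)) m _ (by lia))
  refine P.prop_of_iso (asIso ((HH q).map (R.map ((t.truncLTι m).app Y))))
    (hbdd (m - 1 - n₀).toNat _ n₀ hG₁ (t.isLE_of_le _ (m - 1) _ (by lia)) (fun i => ?_) q)
  by_cases hi : i < m
  · have := DerTrunc.isIso_homology_truncLTι Y m i hi
    exact Q.prop_of_iso (asIso ((DerivedCategory.homologyFunctor B i).map ((t.truncLTι m).app Y))).symm (hQ i)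
  · obtain ⟨Z₀, hZ₀, hQ₀⟩ := Q.exists_prop_of_containsZero
    exact Q.prop_of_iso (hZ₀.iso (DerivedCategory.isZero_of_isLE _ (m - 1) i (by lia))) hQ₀

end Groth.Agent.WayOut
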