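import Groth.Agent.Lib.SitePAdj16.Modules
import Groth.Agent.Lib.SitePAdj16.Single
import Groth.Agent.Lib.SiteRlim16.Trunc
import Groth.Agent.Lib.SiteRlim16.Covers
import Groth.Agent.Lib.SiteRlim16.Eventually

/-! Derived direct images of the truncations of a complex with cohomology of bounded dimension. -/

set_option autoImplicit false
set_option linter.style.haveILetI false
set_option linter.unusedSectionVars false
set_option backward.isDefEq.respectTransparency false
set_option backward.isDefEq.respectTransparency.types false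

universe u

open CategoryTheory CategoryTheory.Limits CategoryTheory.Pretriangulated CategoryTheory.Triangulated
open DerivedCategory.TStructure

namespace Groth.Agent.RpushTrunc

attribute [local instance] HasDerivedCategory.standard

variable {C : Type u} [SmallCategory C] {J : GrothendieckTopology C} {O_C : Sheaf J CommRingCat.{u}}
  {D : Type u} [SmallCategory D] {K : GrothendieckTopology D} {O_D : Sheaf K CommRingCat.{u}}

theorem hasProduct_nat (E : ℕ → DerivedCategory (ModSite.Mod O_C)) : HasProduct E := by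
  choose I hI he using fun n => KInjLib.exists_iso_kInjective (E n)
  exact KInjLib.hasProduct_derivedCategory E I hI fun n => (he n).some

theorem subsingleton_ext_freeOn_of_iso {U : C} {X : ModSite.Mod O_C} (e : X ≅ ModSite.freeOn O_C U)
    (F : ModSite.Mod O_C) (k : ℕ) (h : Subsingleton (ModSite.HU O_C F k U)) :
    Subsingleton (Abelian.Ext.{u} X F k) := by
  haveI := SiteRlim.subsingleton_ext_freeOn O_C U F k h
  refine subsingleton_of_forall_eq 0 fun x => ?_
  have : (Abelian.Ext.mk₀ e.inv).comp x (zero_add k) = 0 := Subsingleton.elim _ _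
  calc x = (Abelian.Ext.mk₀ e.hom).comp ((Abelian.Ext.mk₀ e.inv).comp x (zero_add k)) (zero_add k) := by simp
    _ = 0 := by rw [this, Abelian.Ext.comp_zero]

variable (f : ModSite.RMor O_C O_D) [SiteCmp.HasRpushD f]

/-- `Rf_*` is left t-exact. -/
theorem isGE_rpushD (X : DerivedCategory (ModSite.Mod O_C)) (a : ℤ) (hX : X.IsGE a) :
    ((SiteCmp.RpushD f).obj X).IsGE a :=
  SitePAdj.isGE_rpushD f X a

/-- The cohomology of `Rf_*` of an object in degree `0`. -/
theorem nonempty_homology_inD_iso [HasInjectiveResolutions (ModSite.Mod O_C)] (F : ModSite.Mod O_C) (p : ℕ) :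
    Nonempty ((DerivedCategory.homologyFunctor (ModSite.Mod O_D) (p : ℤ)).obj
      ((SiteCmp.RpushD f).obj (SiteCmp.inD O_C F)) ≅ (f.Rpush p).obj F) :=
  SitePAdj.nonempty_homology_single_iso (SitePAdj.rpushUnit f) KInjLib.enoughKInj_of_grothendieck F p

/-- `Rf_*` of an object in a single degree lives in degrees `[q₀, q₀ + N]`. -/
theorem isZero_homology_rpushD_single [HasInjectiveResolutions (ModSite.Mod O_C)] (F : ModSite.Mod O_C) (N : ℤ)
    (hF : ∀ p : ℕ, N < (p : ℤ) → IsZero ((f.Rpush p).obj F)) (q₀ q : ℤ) (hq : q < q₀ ∨ q₀ + N < q) :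
    IsZero ((DerivedCategory.homologyFunctor (ModSite.Mod O_D) q).obj
      ((SiteCmp.RpushD f).obj ((DerivedCategory.singleFunctor _ q₀).obj F))) := by
  obtain ⟨_, _⟩ := SitePAdj.exists_commShift_isTriangulated_rpushD f
  by_cases h : q < q₀
  · have := isGE_rpushD f ((DerivedCategory.singleFunctor _ q₀).obj F) q₀ inferInstance
    exact DerivedCategory.isZero_of_isGE _ q₀ q h
  · obtain ⟨p, hp⟩ : ∃ p : ℕ, (p : ℤ) = q - q₀ := ⟨(q - q₀).toNat, by omega⟩
    obtain ⟨e⟩ := nonempty_homology_inD_iso f F p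
    refine ((hF p (by omega)).of_iso e).of_iso ?_
    let e₁ : ((DerivedCategory.singleFunctor (ModSite.Mod O_C) q₀).obj F)⟦q₀⟧ ≅ SiteCmp.inD O_C F :=
      ((DerivedCategory.singleFunctors (ModSite.Mod O_C)).shiftIso q₀ 0 q₀ (add_zero q₀)).app F
    exact (((DerivedCategory.homologyFunctor (ModSite.Mod O_D) 0).shiftIso q₀ (p : ℤ) q (by omega)).app _).symm ≪≫
      (DerivedCategory.homologyFunctor (ModSite.Mod O_D) (p : ℤ)).mapIso
        (((SiteCmp.RpushD f).commShiftIso q₀).symm.app _ ≪≫ (SiteCmp.RpushD f).mapIso e₁)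

/-- The derived images of the truncations stabilise in each degree. -/
theorem isIso_homology_tower [HasInjectiveResolutions (ModSite.Mod O_C)] (X : DerivedCategory (ModSite.Mod O_C))
    (N : ℤ) (hX : ∀ (i : ℤ) (p : ℕ), N < (p : ℤ) →
      IsZero ((f.Rpush p).obj ((DerivedCategory.homologyFunctor (ModSite.Mod O_C) i).obj X)))
    (n : ℕ) (j : ℤ) (hj : N - (n : ℤ) ≤ j) :
    IsIso ((DerivedCategory.homologyFunctor (ModSite.Mod O_D) j).map
      ((SiteCmp.RpushD f).map (CohCx.truncTowerMap X n))) := by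
  obtain ⟨_, _⟩ := SitePAdj.exists_commShift_isTriangulated_rpushD f
  obtain ⟨Z, β, γ, hT⟩ := distinguished_cocone_triangle (CohCx.truncTowerMap X n)
  obtain ⟨e⟩ := SiteRlim.nonempty_homology_cone_iso X n hT
  haveI : DerivedCategory.IsGE Z (-(n : ℤ) - 2) := by
    rw [DerivedCategory.isGE_iff]
    exact fun i hi => SiteRlim.isZero_homology_cone X n hT i (by omega)
  haveI : DerivedCategory.IsLE Z (-(n : ℤ) - 2) := by
    rw [DerivedCategory.isLE_iff]
    exact fun i hi => SiteRlim.isZero_homology_cone X n hT i (by omega)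
  obtain ⟨M, ⟨e'⟩⟩ := DerivedCategory.exists_iso_singleFunctor_obj_of_isGE_of_isLE Z (-(n : ℤ) - 2)
  have hM : ∀ p : ℕ, N < (p : ℤ) → IsZero ((f.Rpush p).obj M) := fun p hp =>
    (hX _ p hp).of_iso ((f.Rpush p).mapIso
      (((DerivedCategory.singleFunctorCompHomologyFunctorIso _ _).app M).symm ≪≫
        (DerivedCategory.homologyFunctor _ _).mapIso e'.symm ≪≫ e))
  have hz : ∀ q : ℤ, j - 1 ≤ q → IsZero ((DerivedCategory.homologyFunctor (ModSite.Mod O_D) q).obj
      ((SiteCmp.RpushD f).obj Z)) := fun q hq =>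
    (isZero_homology_rpushD_single f M N hM (-(n : ℤ) - 2) q (Or.inr (by omega))).of_iso
      ((DerivedCategory.homologyFunctor _ q).mapIso ((SiteCmp.RpushD f).mapIso e'))
  exact DerTrunc.isIso_map_mor₁ _ ((SiteCmp.RpushD f).map_distinguished _ hT) j (hz _ le_rfl) (hz _ (by omega))

/-- Stability over `u Y` gives stability of the derived images over `Y`. -/
theorem stable_rpushD {E : ℕ → DerivedCategory (ModSite.Mod O_C)} {t : ∀ n, E (n + 1) ⟶ E n} {m : ℤ} {n₀ : ℕ}
    (Y : D) (h : SiteRlim.Stable E t m n₀ (f.pull.obj (ModSite.freeOn O_D Y))) :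
    SiteRlim.Stable (fun n => (SiteCmp.RpushD f).obj (E n)) (fun n => (SiteCmp.RpushD f).map (t n)) m n₀
      (ModSite.freeOn O_D Y) := by
  have hb := fun m' K' => SitePAdj.bijective_transpose f.adj (SitePAdj.rpushUnit f)
    KInjLib.enoughKInj_of_grothendieck (SitePAdj.isQuasiLiftable_adapted f) (SitePAdj.adapted_freeOn f Y) m' K'
  intro n hn
  obtain ⟨⟨hi, hs⟩, hs'⟩ := h n hn
  have hsurj : ∀ m', Function.Surjective (fun g : (DerivedCategory.singleFunctor _ m').obj
      (f.pull.obj (ModSite.freeOn O_D Y)) ⟶ E (n + 1) => g ≫ t n) →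
      Function.Surjective (fun g : (DerivedCategory.singleFunctor _ m').obj (ModSite.freeOn O_D Y) ⟶
        (SiteCmp.RpushD f).obj (E (n + 1)) => g ≫ (SiteCmp.RpushD f).map (t n)) := by
    intro m' hsm g
    obtain ⟨g', rfl⟩ := (hb m' (E n)).2 g
    obtain ⟨g'', rfl⟩ := hsm g'
    exact ⟨_, (SitePAdj.transpose_comp _ _ g'' (t n)).symm⟩
  refine ⟨⟨fun g₁ g₂ hg => ?_, hsurj m hs⟩, hsurj _ hs'⟩
  obtain ⟨g₁, rfl⟩ := (hb m (E (n + 1))).2 g₁
  obtain ⟨g₂, rfl⟩ := (hb m (E (n + 1))).2 g₂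
  simp only [← SitePAdj.transpose_comp] at hg
  rw [hi ((hb m (E n)).1 hg)]

/-- An object with cohomology of bounded dimension is the derived limit of its truncations. -/
theorem isRlimVia_truncTower_of_dim (X : DerivedCategory (ModSite.Mod O_C))
    [HasProduct (CohCx.truncTower X)] (B : Set C)
    (hB : ∀ U : C, ∃ (ι : Type u) (Y : ι → C) (g : ∀ i, Y i ⟶ U), Sieve.ofArrows Y g ∈ J U ∧ ∀ i, Y i ∈ B)
    (hA : ∀ V ∈ B, ∃ d : ℕ, ∀ T ∈ J V, ∃ (ι : Type u) (Y : ι → C) (g : ∀ i, Y i ⟶ V),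
      (∀ i, T.arrows (g i)) ∧ Sieve.ofArrows Y g ∈ J V ∧ ∀ (i : ι) (q : ℤ) (k : ℕ), d < k →
        Subsingleton (ModSite.HU O_C ((DerivedCategory.homologyFunctor (ModSite.Mod O_C) q).obj X) k (Y i))) :
    CohCx.IsRlimVia (CohCx.truncTower X) (CohCx.truncTowerMap X) X (CohCx.toTruncTower X) := by
  refine SiteRlim.isRlimVia_truncTower (SiteRlim.localGen_genMod O_C) X B (SiteRlim.factor_of_cover B hB)
    fun m V hV => ?_
  obtain ⟨d, hd⟩ := hA V hV
  refine ⟨((d : ℤ) - m).toNat, fun T hT => SiteRlim.factor_of_cofinal (Q := fun Y =>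
    SiteRlim.Stable (CohCx.truncTower X) (CohCx.truncTowerMap X) m ((d : ℤ) - m).toNat
      ((SiteRlim.genMod O_C).obj Y)) (fun T hT => ?_) T hT⟩
  obtain ⟨ι, Y, g, h₁, h₂, h₃⟩ := hd T hT
  exact ⟨ι, Y, g, h₁, h₂, fun i => SiteRlim.stable_truncTower.{u + 1, u} X m _ fun n hn k _ _ =>
    SiteRlim.subsingleton_ext_freeOn O_C _ _ k (h₃ i _ k (by omega))⟩

/-- The derived images of the truncations compute the derived image, given local stability downstairs. -/
theorem isIso_homology_rpushD_truncGE [HasInjectiveResolutions (ModSite.Mod O_C)]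
    (X : DerivedCategory (ModSite.Mod O_C))
    (hX : ∀ [HasProduct (CohCx.truncTower X)],
      CohCx.IsRlimVia (CohCx.truncTower X) (CohCx.truncTowerMap X) X (CohCx.toTruncTower X))
    (N : ℤ) (hN : ∀ (i : ℤ) (p : ℕ), N < (p : ℤ) →
      IsZero ((f.Rpush p).obj ((DerivedCategory.homologyFunctor (ModSite.Mod O_C) i).obj X)))
    (B' : Set D)
    (hB' : ∀ U : D, ∃ (ι : Type u) (Y : ι → D) (g : ∀ i, Y i ⟶ U), Sieve.ofArrows Y g ∈ K U ∧ ∀ i, Y i ∈ B')
    (hst : ∀ m : ℤ, ∀ V ∈ B', ∃ n₀ : ℕ, ∀ T ∈ K V, ∃ (ι : Type u) (Y : ι → D) (g : ∀ i, Y i ⟶ V),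
      (∀ i, T.arrows (g i)) ∧ Sieve.ofArrows Y g ∈ K V ∧ ∀ i,
        SiteRlim.Stable (fun n => (SiteCmp.RpushD f).obj (CohCx.truncTower X n))
          (fun n => (SiteCmp.RpushD f).map (CohCx.truncTowerMap X n)) m n₀ (ModSite.freeOn O_D (Y i)))
    (n : ℕ) (j : ℤ) (hj : N - (n : ℤ) ≤ j) :
    IsIso ((DerivedCategory.homologyFunctor (ModSite.Mod O_D) j).map
      ((SiteCmp.RpushD f).map (CohCx.toTruncTower X n))) := by
  haveI := hasProduct_nat (CohCx.truncTower X)
  haveI := hasProduct_nat (fun n => (SiteCmp.RpushD f).obj (CohCx.truncTower X n))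
  have hL := SitePAdj.isRlimVia_rpushD f _ _ X _ hX
  refine SiteRlim.isIso_homology_of_stable hL (SiteRlim.localGen_genMod O_D) B'
    (SiteRlim.factor_of_cover B' hB') j (N - j).toNat (fun k hk => isIso_homology_tower f X N hN k j (by omega))
    (fun V hV => ?_) n (by omega)
  obtain ⟨n₀, h⟩ := hst j V hV
  exact ⟨n₀, fun T hT => SiteRlim.factor_of_cofinal h T hT⟩

end Groth.Agent.RpushTrunc
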