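import Groth.Agent.Lib.SiteCmp16.RpushTrunc
import Groth.Agent.S9069

/-! Extending the bounded below equivalence to unbounded complexes under bounded cohomological dimension. -/

set_option autoImplicit false
set_option linter.style.haveILetI false
set_option linter.unusedSectionVars false
set_option backward.isDefEq.respectTransparency false
set_option backward.isDefEq.respectTransparency.types false

universe u

open CategoryTheory CategoryTheory.Limits CategoryTheory.Pretriangulated CategoryTheory.Triangulated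
open DerivedCategory.TStructure

namespace Groth.Agent.RpushTrunc

attribute [local instance] HasDerivedCategory.standard

variable {C : Type u} [SmallCategory C] {J : GrothendieckTopology C} {O_C : Sheaf J CommRingCat.{u}}
  {D : Type u} [SmallCategory D] {K : GrothendieckTopology D} {O_D : Sheaf K CommRingCat.{u}}
  (f : ModSite.RMor O_C O_D) [PreservesFiniteLimits f.pull] [SiteCmp.HasRpushD f]
  (adj : SiteCmp.pullD f ⊣ SiteCmp.RpushD f)
  (A : ObjectProperty (ModSite.Mod O_C)) [WSerre.IsWeakSerre A]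
  (A' : ObjectProperty (ModSite.Mod O_D)) [WSerre.IsWeakSerre A']

include adj in
/-- `Rf_*` is `f_*` on objects pulled back from `A'`. -/
theorem isZero_rpush_of_unit [HasInjectiveResolutions (ModSite.Mod O_C)]
    (h2c : ∀ F : ModSite.Mod O_C, A F → ∃ F' : ModSite.Mod O_D, A' F' ∧ Nonempty (f.pull.obj F' ≅ F))
    (h3 : ∀ F' : ModSite.Mod O_D, A' F' → IsIso (adj.unit.app (SiteCmp.inD O_D F')))
    (F : ModSite.Mod O_C) (hF : A F) (p : ℕ) :
    (0 < p → IsZero ((f.Rpush p).obj F)) ∧ A' ((f.Rpush p).obj F) := by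
  obtain ⟨F', hF', ⟨e⟩⟩ := h2c F hF
  haveI := h3 F' hF'
  obtain ⟨e₁⟩ := nonempty_homology_inD_iso f F p
  let e₂ : SiteCmp.inD O_D F' ≅ (SiteCmp.RpushD f).obj (SiteCmp.inD O_C F) :=
    asIso (adj.unit.app (SiteCmp.inD O_D F')) ≪≫
      (SiteCmp.RpushD f).mapIso ((f.pull.mapDerivedCategorySingleFunctor 0).app F' ≪≫
        (DerivedCategory.singleFunctor _ 0).mapIso e)
  let e₃ := (DerivedCategory.homologyFunctor (ModSite.Mod O_D) (p : ℤ)).mapIso e₂ ≪≫ e₁
  exact ⟨fun hp => (DerivedCategory.isZero_of_isLE (SiteCmp.inD O_D F') 0 (p : ℤ) (by omega)).of_iso e₃.symm,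
    A'.prop_of_iso e₃ (WayOut.cohIn_single A' hF' 0 p)⟩

variable (h2a : ∀ F' : ModSite.Mod O_D, A' F' → A (f.pull.obj F'))
    (h2b : ∀ F' G' : ModSite.Mod O_D, A' F' → A' G' →
      Function.Bijective (fun φ : F' ⟶ G' => f.pull.map φ))
    (h2c : ∀ F : ModSite.Mod O_C, A F → ∃ F' : ModSite.Mod O_D, A' F' ∧ Nonempty (f.pull.obj F' ≅ F))
    (h3 : ∀ F' : ModSite.Mod O_D, A' F' → IsIso (adj.unit.app (SiteCmp.inD O_D F')))

omit adj in
theorem cohIn_truncGE {O : Sheaf J CommRingCat.{u}} (P : ObjectProperty (ModSite.Mod O)) [WSerre.IsWeakSerre P]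
    (X : DerivedCategory (ModSite.Mod O)) (hX : WSerre.cohIn P X) (n : ℕ) :
    WSerre.cohInPlus P (CohCx.truncTower X n) := by
  refine ⟨fun q => ?_, -(n : ℤ), inferInstance⟩
  by_cases hq : -(n : ℤ) ≤ q
  · haveI := SiteRlim.isIso_homology_toTruncTower X n q hq
    exact P.prop_of_iso (asIso ((DerivedCategory.homologyFunctor _ q).map (CohCx.toTruncTower X n))) (hX q)
  · obtain ⟨Z, hZ, hZ'⟩ := P.exists_prop_of_containsZero
    exact P.prop_of_iso (hZ.iso (SiteRlim.isZero_homology_truncTower X n q (by omega))) hZ'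

include h2a h2b h2c h3 in
theorem equivalence_of_key
    (hkey : ∀ X, WSerre.cohIn A X → ∀ (n : ℕ) (j : ℤ), -(n : ℤ) ≤ j →
      IsIso ((DerivedCategory.homologyFunctor (ModSite.Mod O_D) j).map
        ((SiteCmp.RpushD f).map (CohCx.toTruncTower X n)))) :
    (∀ Y : DerivedCategory (ModSite.Mod O_D), WSerre.cohIn A' Y →
      WSerre.cohIn A ((SiteCmp.pullD f).obj Y) ∧ IsIso (adj.unit.app Y)) ∧
    (∀ X : DerivedCategory (ModSite.Mod O_C), WSerre.cohIn A X →
      WSerre.cohIn A' ((SiteCmp.RpushD f).obj X) ∧ IsIso (adj.counit.app X)) := by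
  obtain ⟨_, _⟩ := SitePAdj.exists_commShift_isTriangulated_rpushD f
  have hplus := Groth.Agent.S9069.result f adj A A' h2a h2b h2c h3
  have hL : ∀ Y, WSerre.cohIn A' Y → WSerre.cohIn A ((SiteCmp.pullD f).obj Y) := fun Y hY i =>
    A.prop_of_iso ((WayOut.mapDerivedHomologyIso f.pull i).app Y).symm (h2a _ (hY i))
  refine ⟨fun Y hY => ⟨hL Y hY, ?_⟩, fun X hX => ⟨fun j => ?_, ?_⟩⟩
  · rw [DerivedCategory.isIso_iff]
    intro j
    obtain ⟨n, hn⟩ : ∃ n : ℕ, -(n : ℤ) ≤ j := ⟨(-j).toNat, by omega⟩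
    haveI := SiteRlim.isIso_homology_toTruncTower Y n j hn
    haveI := (hplus.1 _ (cohIn_truncGE A' Y hY n)).2
    haveI : DerivedCategory.IsLE ((t.truncLT (-(n : ℤ))).obj Y) (-(n : ℤ) - 1) :=
      (inferInstance : t.IsLE ((t.truncLT (-(n : ℤ))).obj Y) (-(n : ℤ) - 1))
    let W := (SiteCmp.pullD f).obj ((t.truncLT (-(n : ℤ))).obj Y)
    have hW : WSerre.cohIn A W := hL _ fun q => by
      by_cases hq : q < -(n : ℤ)
      · have := DerTrunc.isIso_homology_truncLTι Y (-(n : ℤ)) q hq
        exact A'.prop_of_iso (asIso ((DerivedCategory.homologyFunctor _ q).map ((t.truncLTι (-(n : ℤ))).app Y))).symm (hY q)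
      · obtain ⟨Z, hZ, hZ'⟩ := A'.exists_prop_of_containsZero
        exact A'.prop_of_iso (hZ.iso (DerivedCategory.isZero_of_isLE _ (-(n : ℤ) - 1) q (by omega))) hZ'
    haveI : DerivedCategory.IsLE W (-(n : ℤ) - 1) := WayOut.isLE_mapDerivedCategory f.pull _ _
    have hz : ∀ q : ℤ, -(n : ℤ) ≤ q →
        IsZero ((DerivedCategory.homologyFunctor (ModSite.Mod O_D) q).obj ((SiteCmp.RpushD f).obj W)) := by
      intro q hq
      haveI := hkey W hW n q hq
      refine IsZero.of_iso ?_ (asIso ((DerivedCategory.homologyFunctor (ModSite.Mod O_D) q).map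
        ((SiteCmp.RpushD f).map (CohCx.toTruncTower W n))))
      have hzero : IsZero (CohCx.truncTower W n) :=
        (t.isLE_iff_isZero_truncGE_obj (-(n : ℤ) - 1) (-(n : ℤ)) (by omega) W).1 (inferInstanceAs (t.IsLE W (-(n : ℤ) - 1)))
      exact Functor.map_isZero _ (Functor.map_isZero _ hzero)
    haveI : IsIso ((DerivedCategory.homologyFunctor (ModSite.Mod O_D) j).map
        ((SiteCmp.RpushD f).map ((SiteCmp.pullD f).map (CohCx.toTruncTower Y n)))) :=
      DerTrunc.isIso_map_mor₂ _ ((SiteCmp.RpushD f).map_distinguished _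
        ((SiteCmp.pullD f).map_distinguished _ (t.triangleLTGE_distinguished (-(n : ℤ)) Y))) j
        (hz j hn) (hz (j + 1) (by omega))
    have h := congrArg (DerivedCategory.homologyFunctor (ModSite.Mod O_D) j).map
      (adj.unit.naturality (CohCx.toTruncTower Y n))
    simp only [Functor.id_map, Functor.comp_map, Functor.map_comp] at h
    haveI : IsIso ((DerivedCategory.homologyFunctor (ModSite.Mod O_D) j).map (adj.unit.app Y) ≫
        (DerivedCategory.homologyFunctor (ModSite.Mod O_D) j).map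
          ((SiteCmp.RpushD f).map ((SiteCmp.pullD f).map (CohCx.toTruncTower Y n)))) := by
      erw [← h]; infer_instance
    exact IsIso.of_isIso_comp_right _ ((DerivedCategory.homologyFunctor (ModSite.Mod O_D) j).map
      ((SiteCmp.RpushD f).map ((SiteCmp.pullD f).map (CohCx.toTruncTower Y n))))
  · obtain ⟨n, hn⟩ : ∃ n : ℕ, -(n : ℤ) ≤ j := ⟨(-j).toNat, by omega⟩
    haveI := hkey X hX n j hn
    exact A'.prop_of_iso (asIso ((DerivedCategory.homologyFunctor (ModSite.Mod O_D) j).map
      ((SiteCmp.RpushD f).map (CohCx.toTruncTower X n)))).symm ((hplus.2 _ (cohIn_truncGE A X hX n)).1.1 j)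
  · rw [DerivedCategory.isIso_iff]
    intro j
    obtain ⟨n, hn⟩ : ∃ n : ℕ, -(n : ℤ) ≤ j := ⟨(-j).toNat, by omega⟩
    haveI := SiteRlim.isIso_homology_toTruncTower X n j hn
    haveI := (hplus.2 _ (cohIn_truncGE A X hX n)).2
    haveI := hkey X hX n j hn
    haveI : IsIso ((DerivedCategory.homologyFunctor (ModSite.Mod O_C) j).map
        ((SiteCmp.pullD f).map ((SiteCmp.RpushD f).map (CohCx.toTruncTower X n)))) :=
      (NatIso.isIso_map_iff (WayOut.mapDerivedHomologyIso f.pull j)
        ((SiteCmp.RpushD f).map (CohCx.toTruncTower X n))).2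
          (inferInstanceAs (IsIso (f.pull.map ((DerivedCategory.homologyFunctor (ModSite.Mod O_D) j).map
            ((SiteCmp.RpushD f).map (CohCx.toTruncTower X n))))))
    have h := congrArg (DerivedCategory.homologyFunctor (ModSite.Mod O_C) j).map
      (adj.counit.naturality (CohCx.toTruncTower X n))
    simp only [Functor.id_map, Functor.comp_map, Functor.map_comp] at h
    haveI : IsIso ((DerivedCategory.homologyFunctor (ModSite.Mod O_C) j).map (adj.counit.app X) ≫
        (DerivedCategory.homologyFunctor (ModSite.Mod O_C) j).map (CohCx.toTruncTower X n)) := by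
      erw [← h]; infer_instance
    exact IsIso.of_isIso_comp_right _ ((DerivedCategory.homologyFunctor (ModSite.Mod O_C) j).map (CohCx.toTruncTower X n))

end Groth.Agent.RpushTrunc
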