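import Groth.Agent.Lib.SiteCmp16.CohIn

/-! Equivalences of bounded derived categories with cohomology in weak Serre subcategories, by dévissage. -/

set_option autoImplicit false
set_option linter.style.haveILetI false
set_option linter.unusedSectionVars false
set_option backward.isDefEq.respectTransparency false
set_option backward.isDefEq.respectTransparency.types false

universe w w' v v' u u'

open CategoryTheory CategoryTheory.Limits CategoryTheory.Pretriangulated CategoryTheory.Triangulated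
open DerivedCategory.TStructure

namespace Groth.Agent.WayOut

section Bij

variable {T : Type*} [Category* T] [HasZeroObject T] [HasShift T ℤ] [Preadditive T]
  [∀ n : ℤ, (shiftFunctor T n).Additive] [Pretriangulated T]
  {T' : Type*} [Category* T'] [HasZeroObject T'] [HasShift T' ℤ] [Preadditive T']
  [∀ n : ℤ, (shiftFunctor T' n).Additive] [Pretriangulated T']
  (G : T ⥤ T') [G.CommShift ℤ] [G.IsTriangulated]

/-- The functor is bijective on maps from `X` to `Y`. -/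
def Bij (X Y : T) : Prop := Function.Bijective (fun f : X ⟶ Y => G.map f)

variable {G}

theorem Bij.of_iso {X X' Y Y' : T} (e : X ≅ X') (e' : Y ≅ Y') (h : Bij G X Y) : Bij G X' Y' := by
  constructor
  · intro a b hab
    have h1 : e.hom ≫ a ≫ e'.inv = e.hom ≫ b ≫ e'.inv := h.1 (by
      simp only [Functor.map_comp]
      exact congrArg (fun q => G.map e.hom ≫ q ≫ G.map e'.inv) hab)
    simpa using h1
  · intro φ
    obtain ⟨a, ha⟩ := h.2 (G.map e.hom ≫ φ ≫ G.map e'.inv)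
    refine ⟨e.inv ≫ a ≫ e'.hom, ?_⟩
    simp only at ha
    show G.map _ = φ
    rw [Functor.map_comp, Functor.map_comp, ha, Category.assoc, Category.assoc, ← G.map_comp, e'.inv_hom_id,
      G.map_id, Category.comp_id, ← Category.assoc, ← G.map_comp, e.inv_hom_id, G.map_id, Category.id_comp]

theorem Bij.shift {X Y : T} (h : Bij G X Y) (n : ℤ) : Bij G (X⟦n⟧) (Y⟦n⟧) := by
  have key : ∀ f : X ⟶ Y, G.map (f⟦n⟧') =
      (G.commShiftIso n).hom.app X ≫ (G.map f)⟦n⟧' ≫ (G.commShiftIso n).inv.app Y := fun f => by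
    have e := (G.commShiftIso n).hom.naturality f
    simp only [Functor.comp_map] at e
    rw [← Category.assoc, ← e]
    simp
  constructor
  · intro a b hab
    obtain ⟨a, rfl⟩ := (shiftFunctor T n).map_surjective a
    obtain ⟨b, rfl⟩ := (shiftFunctor T n).map_surjective b
    simp only [key, cancel_epi, cancel_mono] at hab
    rw [h.1 ((shiftFunctor T' n).map_injective hab)]
  · intro φ
    obtain ⟨ψ, hψ⟩ := (shiftFunctor T' n).map_surjective
      ((G.commShiftIso n).inv.app X ≫ φ ≫ (G.commShiftIso n).hom.app Y)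
    obtain ⟨f, hf⟩ := h.2 ψ
    refine ⟨f⟦n⟧', ?_⟩
    simp only at hf
    simp only [key, hf, hψ]
    simp

theorem bij_target₂ {X : T} (S : Triangle T) (hS : S ∈ distTriang T) (h₁ : Bij G X S.obj₁) (h₃ : Bij G X S.obj₃)
    (h₃' : Bij G X (S.obj₃⟦(-1 : ℤ)⟧)) (h₁' : Bij G X (S.obj₁⟦(1 : ℤ)⟧)) : Bij G X S.obj₂ := by
  have hS' := inv_rot_of_distTriang _ hS
  have hGS := G.map_distinguished _ hS
  have hGS' := G.map_distinguished _ hS'
  constructor
  · intro a b hab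
    rw [← sub_eq_zero]
    have h0 : G.map (a - b) = 0 := by rw [G.map_sub]; exact sub_eq_zero.2 hab
    obtain ⟨g, hg⟩ := S.coyoneda_exact₂ hS (a - b) (h₃.1 (by
      show G.map _ = G.map 0
      rw [Functor.map_comp, h0, zero_comp, G.map_zero]) : (a - b) ≫ S.mor₂ = 0)
    obtain ⟨h, hh⟩ := Triangle.coyoneda_exact₂ _ hGS' (G.map g) (by
      show G.map g ≫ G.map S.mor₁ = 0
      rw [← Functor.map_comp, ← hg, h0])
    obtain ⟨h', rfl⟩ := h₃'.2 h
    have e : g = h' ≫ S.invRotate.mor₁ := h₁.1 (hh.trans (G.map_comp _ _).symm)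
    rw [hg, e, Category.assoc]
    exact (congrArg (h' ≫ ·) (comp_distTriang_mor_zero₁₂ _ hS')).trans comp_zero
  · intro φ
    obtain ⟨b, hb⟩ := h₃.2 (φ ≫ G.map S.mor₂)
    simp only at hb
    have hb0 : b ≫ S.mor₃ = 0 := h₁'.1 (by
      show G.map _ = G.map 0
      rw [Functor.map_comp, hb, Category.assoc, ← Functor.map_comp, comp_distTriang_mor_zero₂₃ _ hS,
        G.map_zero, G.map_zero, comp_zero])
    obtain ⟨f, hf⟩ := S.coyoneda_exact₃ hS b hb0
    obtain ⟨g, hg⟩ := Triangle.coyoneda_exact₂ _ hGS (φ - G.map f) (by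
      show (φ - G.map f) ≫ G.map S.mor₂ = 0
      rw [Preadditive.sub_comp, ← hb, ← Functor.map_comp, ← hf, sub_self])
    obtain ⟨g', rfl⟩ := h₁.2 g
    refine ⟨f + g' ≫ S.mor₁, ?_⟩
    show G.map _ = φ
    rw [G.map_add, Functor.map_comp]
    exact eq_add_of_sub_eq' (a := φ) hg |>.symm

theorem bij_source₂ {Y : T} (S : Triangle T) (hS : S ∈ distTriang T) (h₁ : Bij G S.obj₁ Y) (h₃ : Bij G S.obj₃ Y)
    (h₁' : Bij G (S.obj₁⟦(1 : ℤ)⟧) Y) (h₃' : Bij G (S.obj₃⟦(-1 : ℤ)⟧) Y) : Bij G S.obj₂ Y := by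
  have hS' := inv_rot_of_distTriang _ hS
  have hS'' := rot_of_distTriang _ hS
  have hGS := G.map_distinguished _ hS
  have hGS'' := G.map_distinguished _ hS''
  constructor
  · intro a b hab
    rw [← sub_eq_zero]
    have h0 : G.map (a - b) = 0 := by rw [G.map_sub]; exact sub_eq_zero.2 hab
    obtain ⟨c, hc⟩ := S.yoneda_exact₂ hS (a - b) (h₁.1 (by
      show G.map _ = G.map 0
      rw [Functor.map_comp, h0, comp_zero, G.map_zero]) : S.mor₁ ≫ (a - b) = 0)
    obtain ⟨h, hh⟩ := Triangle.yoneda_exact₂ _ hGS'' (G.map c) (by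
      show G.map S.mor₂ ≫ G.map c = 0
      rw [← Functor.map_comp, ← hc, h0])
    obtain ⟨h', rfl⟩ := h₁'.2 h
    have e : c = S.mor₃ ≫ h' := h₃.1 (hh.trans (G.map_comp _ _).symm)
    rw [hc, e, ← Category.assoc, comp_distTriang_mor_zero₂₃ _ hS, zero_comp]
  · intro φ
    obtain ⟨a, ha⟩ := h₁.2 (G.map S.mor₁ ≫ φ)
    simp only at ha
    have ha0 : S.invRotate.mor₁ ≫ a = 0 := h₃'.1 (by
      show G.map _ = G.map 0
      rw [Functor.map_comp, ha, ← Category.assoc, ← Functor.map_comp, G.map_zero]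
      refine Eq.trans (congrArg (· ≫ φ) ?_) zero_comp
      exact (congrArg G.map (comp_distTriang_mor_zero₁₂ _ hS')).trans (G.map_zero _ _))
    obtain ⟨f, hf⟩ : ∃ f : S.obj₂ ⟶ Y, a = S.mor₁ ≫ f := Triangle.yoneda_exact₂ _ hS' a ha0
    obtain ⟨g, hg⟩ := Triangle.yoneda_exact₂ _ hGS (φ - G.map f) (by
      show G.map S.mor₁ ≫ (φ - G.map f) = 0
      rw [Preadditive.comp_sub, ← ha, ← Functor.map_comp, hf, sub_self])
    obtain ⟨g', rfl⟩ := h₃.2 g
    refine ⟨f + S.mor₂ ≫ g', ?_⟩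
    show G.map _ = φ
    rw [G.map_add, Functor.map_comp]
    exact eq_add_of_sub_eq' (a := φ) hg |>.symm

variable (G) in
/-- Bijective on maps into all shifts. -/
def BijAll (X Y : T) : Prop := ∀ n : ℤ, Bij G X (Y⟦n⟧)

theorem BijAll.of_iso {X X' Y Y' : T} (e : X ≅ X') (e' : Y ≅ Y') (h : BijAll G X Y) : BijAll G X' Y' :=
  fun n => (h n).of_iso e ((shiftFunctor T n).mapIso e')

theorem BijAll.shift_right {X Y : T} (h : BijAll G X Y) (k : ℤ) : BijAll G X (Y⟦k⟧) :=
  fun n => (h (k + n)).of_iso (Iso.refl X) ((shiftFunctorAdd T k n).app Y)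

theorem BijAll.shift_left {X Y : T} (h : BijAll G X Y) (k : ℤ) : BijAll G (X⟦k⟧) Y :=
  fun n => ((h (n - k)).shift k).of_iso (Iso.refl _)
    (((shiftFunctorAdd' T (n - k) k n (by omega)).app Y).symm)

theorem BijAll.target₂ {X : T} (S : Triangle T) (hS : S ∈ distTriang T) (h₁ : BijAll G X S.obj₁)
    (h₃ : BijAll G X S.obj₃) : BijAll G X S.obj₂ := fun n =>
  bij_target₂ _ (Triangle.shift_distinguished _ hS n) (h₁ n) (h₃ n)
    ((h₃ (n + -1)).of_iso (Iso.refl X) ((shiftFunctorAdd T n (-1)).app S.obj₃))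
    ((h₁ (n + 1)).of_iso (Iso.refl X) ((shiftFunctorAdd T n 1).app S.obj₁))

theorem BijAll.source₂ {Y : T} (S : Triangle T) (hS : S ∈ distTriang T) (h₁ : BijAll G S.obj₁ Y)
    (h₃ : BijAll G S.obj₃ Y) : BijAll G S.obj₂ Y := fun n =>
  bij_source₂ S hS (h₁ n) (h₃ n) (h₁.shift_left 1 n) (h₃.shift_left (-1) n)

end Bij

section Main

variable {A : Type u} [Category.{v} A] [Abelian A] [HasDerivedCategory.{w} A]
  (P : ObjectProperty A) [WSerre.IsWeakSerre P]

local notation "HH" => DerivedCategory.homologyFunctor A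
local notation "SF" => DerivedCategory.singleFunctor A

/-- Dévissage of bounded objects with cohomology in a weak Serre subcategory. -/
theorem induction_cohInBdd (S : DerivedCategory A → Prop) (hiso : ∀ {X Y}, (X ≅ Y) → S X → S Y)
    (htri : ∀ T ∈ distTriang (DerivedCategory A), S T.obj₁ → S T.obj₃ → S T.obj₂)
    (hs : ∀ (M : A) (n : ℤ), P M → S ((SF n).obj M)) (X : DerivedCategory A) (hX : WSerre.cohInBdd P X) : S X := by
  have hconc : ∀ (X : DerivedCategory A) (n : ℤ), X.IsGE n → X.IsLE n → P ((HH n).obj X) → S X := by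
    intro X n _ _ h
    obtain ⟨M, ⟨e⟩⟩ := DerivedCategory.exists_iso_singleFunctor_obj_of_isGE_of_isLE X n
    exact hiso e.symm (hs M n (P.prop_of_iso ((HH n).mapIso e ≪≫
      (DerivedCategory.singleFunctorCompHomologyFunctorIso A n).app M) h))
  have key : ∀ (k : ℕ) (X : DerivedCategory A) (a : ℤ), X.IsGE a → X.IsLE (a + k) → WSerre.cohIn P X → S X := by
    intro k
    induction k with
    | zero =>
      intro Z a ha hb hZ
      exact hconc Z a ha (by simpa using hb) (hZ a)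
    | succ k ih =>
      intro Z a ha hb hZ
      obtain ⟨b, hbdef⟩ : ∃ b : ℤ, a + (k + 1 : ℕ) = b := ⟨_, rfl⟩
      rw [hbdef] at hb
      have hL : DerivedCategory.IsLE ((t.truncLT b).obj Z) (a + k) :=
        t.isLE_truncLT_obj Z b (a + k) (by lia)
      have hG : DerivedCategory.IsGE ((t.truncLT b).obj Z) a :=
        (inferInstance : t.IsGE ((t.truncLT b).obj Z) a)
      have hG₃ : DerivedCategory.IsGE ((t.truncGE b).obj Z) b :=
        (inferInstance : t.IsGE ((t.truncGE b).obj Z) b)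
      have hL₃ : DerivedCategory.IsLE ((t.truncGE b).obj Z) b :=
        (inferInstance : t.IsLE ((t.truncGE b).obj Z) b)
      refine htri _ (t.triangleLTGE_distinguished b Z)
        (ih _ a hG hL fun q => ?_) (hconc ((t.truncGE b).obj Z) b hG₃ hL₃ ?_)
      · change P ((HH q).obj ((t.truncLT b).obj Z))
        by_cases hq : q < b
        · have := DerTrunc.isIso_homology_truncLTι Z b q hq
          exact P.prop_of_iso (asIso ((HH q).map ((t.truncLTι b).app Z))).symm (hZ q)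
        · obtain ⟨Z₀, hZ₀, hQ₀⟩ := P.exists_prop_of_containsZero
          exact P.prop_of_iso (hZ₀.iso (DerivedCategory.isZero_of_isLE _ (a + k) q (by lia))) hQ₀
      · have := DerTrunc.isIso_homology_truncGEπ Z b b le_rfl
        exact P.prop_of_iso (asIso ((HH b).map ((t.truncGEπ b).app Z))) (hZ b)
  obtain ⟨hcoh, ⟨a, ha⟩, ⟨b, hb⟩⟩ := hX
  exact key (b - a).toNat X a ha (t.isLE_of_le X b _ (by omega)) hcoh

theorem cohInBdd_single {M : A} (h : P M) (n : ℤ) : WSerre.cohInBdd P ((SF n).obj M) :=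
  ⟨cohIn_single P h n, ⟨n, (inferInstance : DerivedCategory.IsGE ((SF n).obj M) n)⟩,
    ⟨n, (inferInstance : DerivedCategory.IsLE ((SF n).obj M) n)⟩⟩

theorem cohInBdd_of_iso {X Y : DerivedCategory A} (e : X ≅ Y) (h : WSerre.cohInBdd P X) : WSerre.cohInBdd P Y :=
  ⟨cohIn_of_iso P e h.1, (t : TStructure (DerivedCategory A)).bounded.prop_of_iso e h.2⟩

theorem cohInBdd_obj₂ (T : Triangle (DerivedCategory A)) (hT : T ∈ distTriang _)
    (h₁ : WSerre.cohInBdd P T.obj₁) (h₃ : WSerre.cohInBdd P T.obj₃) : WSerre.cohInBdd P T.obj₂ := by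
  obtain ⟨c₁, ⟨a₁, ha₁⟩, ⟨b₁, hb₁⟩⟩ := h₁
  obtain ⟨c₃, ⟨a₃, ha₃⟩, ⟨b₃, hb₃⟩⟩ := h₃
  haveI : DerivedCategory.IsGE T.obj₁ a₁ := ha₁
  haveI : DerivedCategory.IsGE T.obj₃ a₃ := ha₃
  haveI : DerivedCategory.IsLE T.obj₁ b₁ := hb₁
  haveI : DerivedCategory.IsLE T.obj₃ b₃ := hb₃
  have hz : ∀ q : ℤ, IsZero ((HH q).obj T.obj₁) → IsZero ((HH q).obj T.obj₃) → IsZero ((HH q).obj T.obj₂) :=
    fun q h1 h3 => (DerivedCategory.HomologySequence.exact₂ T hT q).isZero_of_both_zeros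
      (h1.eq_of_src _ _) (h3.eq_of_tgt _ _)
  refine ⟨cohIn_obj₂ P T hT c₁ c₃, ⟨min a₁ a₃, ?_⟩, ⟨max b₁ b₃, ?_⟩⟩
  · refine (DerivedCategory.isGE_iff _ _).2 fun q hq => hz q
      (DerivedCategory.isZero_of_isGE T.obj₁ a₁ q (by omega)) (DerivedCategory.isZero_of_isGE T.obj₃ a₃ q (by omega))
  · refine (DerivedCategory.isLE_iff _ _).2 fun q hq => hz q
      (DerivedCategory.isZero_of_isLE T.obj₁ b₁ q (by omega)) (DerivedCategory.isZero_of_isLE T.obj₃ b₃ q (by omega))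

variable {B : Type u'} [Category.{v'} B] [Abelian B] [HasDerivedCategory.{w'} B]
  (Q : ObjectProperty B) [WSerre.IsWeakSerre Q]
  (F : A ⥤ B) [F.Additive] [PreservesFiniteLimits F] [PreservesFiniteColimits F]

theorem equivalence_cohInBdd (h1 : ∀ M, P M → Q (F.obj M))
    (hess : ∀ N, Q N → ∃ M, P M ∧ Nonempty (F.obj M ≅ N))
    (h2 : ∀ M M', P M → P M' → BijAll F.mapDerivedCategory ((SF 0).obj M) ((SF 0).obj M')) :
    (∀ K, WSerre.cohInBdd P K → WSerre.cohInBdd Q (F.mapDerivedCategory.obj K)) ∧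
      (∀ K L, WSerre.cohInBdd P K → WSerre.cohInBdd P L →
        Function.Bijective (fun φ : (K ⟶ L) => F.mapDerivedCategory.map φ)) ∧
      (∀ M, WSerre.cohInBdd Q M → ∃ K, WSerre.cohInBdd P K ∧ Nonempty (F.mapDerivedCategory.obj K ≅ M)) := by
  have hsingle : ∀ M M', P M → P M' → ∀ a b : ℤ, BijAll F.mapDerivedCategory ((SF a).obj M) ((SF b).obj M') := by
    intro M M' hM hM' a b
    have ea : ∀ (N : A) (c : ℤ), (SF 0).obj N ≅ ((SF c).obj N)⟦c⟧ := fun N c =>
      (((DerivedCategory.singleFunctors A).shiftIso c 0 c (add_zero c)).app N).symm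
    exact (((h2 M M' hM hM').of_iso (ea M a) (ea M' b)).shift_left (-a) |>.shift_right (-b)).of_iso
      (((shiftEquiv _ a).unitIso.app _).symm) (((shiftEquiv _ b).unitIso.app _).symm)
  have hfull : ∀ K L, WSerre.cohInBdd P K → WSerre.cohInBdd P L → BijAll F.mapDerivedCategory K L := by
    intro K L hK hL
    refine induction_cohInBdd P (fun X => BijAll F.mapDerivedCategory X L) (fun e h => h.of_iso e (Iso.refl _))
      (fun T hT a c => BijAll.source₂ T hT a c) (fun M a hM => ?_) K hK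
    exact induction_cohInBdd P (fun Y => BijAll F.mapDerivedCategory ((SF a).obj M) Y)
      (fun e h => h.of_iso (Iso.refl _) e) (fun T hT a c => BijAll.target₂ T hT a c)
      (fun M' b hM' => hsingle M M' hM hM' a b) L hL
  have hmap : ∀ K, WSerre.cohInBdd P K → WSerre.cohInBdd Q (F.mapDerivedCategory.obj K) := by
    intro K hK
    refine ⟨fun q => Q.prop_of_iso ((mapDerivedHomologyIso F q).app K).symm (h1 _ (hK.1 q)), ?_, ?_⟩
    · obtain ⟨a, ha⟩ := hK.2.1
      haveI : DerivedCategory.IsGE K a := ha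
      exact ⟨a, isGE_mapDerivedCategory F K a⟩
    · obtain ⟨b, hb⟩ := hK.2.2
      haveI : DerivedCategory.IsLE K b := hb
      exact ⟨b, isLE_mapDerivedCategory F K b⟩
  have hfull0 : ∀ K L, WSerre.cohInBdd P K → WSerre.cohInBdd P L → Bij F.mapDerivedCategory K L :=
    fun K L hK hL => (hfull K L hK hL 0).of_iso (Iso.refl K) ((shiftFunctorZero _ ℤ).app L)
  refine ⟨hmap, hfull0, fun M hM => ?_⟩
  refine induction_cohInBdd Q (fun M => ∃ K, WSerre.cohInBdd P K ∧ Nonempty (F.mapDerivedCategory.obj K ≅ M))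
    (fun e ⟨K, hK, ⟨i⟩⟩ => ⟨K, hK, ⟨i ≪≫ e⟩⟩) (fun T hT => ?_) (fun N n hN => ?_) M hM
  · rintro ⟨K₁, hK₁, ⟨i₁⟩⟩ ⟨K₃, hK₃, ⟨i₃⟩⟩
    obtain ⟨δ, hδ⟩ : ∃ δ : K₃ ⟶ K₁⟦(1 : ℤ)⟧, F.mapDerivedCategory.map δ =
        i₃.hom ≫ T.mor₃ ≫ i₁.inv⟦(1 : ℤ)⟧' ≫ (F.mapDerivedCategory.commShiftIso (1 : ℤ)).inv.app K₁ :=
      (hfull K₃ K₁ hK₃ hK₁ 1).2 _
    obtain ⟨K₂, f, g, hK⟩ := distinguished_cocone_triangle₂ δ
    refine ⟨K₂, cohInBdd_obj₂ P _ hK hK₁ hK₃, ?_⟩
    have hG := F.mapDerivedCategory.map_distinguished _ hK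
    have comm : (F.mapDerivedCategory.mapTriangle.obj (Triangle.mk f g δ)).mor₃ ≫ i₁.hom⟦(1 : ℤ)⟧' =
        i₃.hom ≫ T.mor₃ := by
      show (F.mapDerivedCategory.map δ ≫ (F.mapDerivedCategory.commShiftIso (1 : ℤ)).hom.app K₁) ≫ _ = _
      rw [hδ]
      simp [← Functor.map_comp]
    obtain ⟨b, hb1, hb2⟩ := complete_distinguished_triangle_morphism₂ _ _ hG hT i₁.hom i₃.hom comm
    let φ : F.mapDerivedCategory.mapTriangle.obj (Triangle.mk f g δ) ⟶ T :=
      { hom₁ := i₁.hom, hom₂ := b, hom₃ := i₃.hom, comm₁ := hb1, comm₂ := hb2, comm₃ := comm }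
    haveI : IsIso φ.hom₂ := isIso₂_of_isIso₁₃ φ hG hT (inferInstanceAs (IsIso i₁.hom)) (inferInstanceAs (IsIso i₃.hom))
    exact ⟨asIso φ.hom₂⟩
  · obtain ⟨M₀, hM₀, ⟨e⟩⟩ := hess N hN
    exact ⟨(SF n).obj M₀, cohInBdd_single P hM₀ n,
      ⟨(F.mapDerivedCategorySingleFunctor n).app M₀ ≪≫ (DerivedCategory.singleFunctor B n).mapIso e⟩⟩

end Main

end Groth.Agent.WayOut
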