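import Groth.Agent.Lib.SiteCmp16.RpushTrunc
import Groth.Agent.Lib.SiteCoh.Basic

/-! The comparison morphism from a finer to a coarser topology, on modules. -/

set_option autoImplicit false
set_option linter.style.haveILetI false
set_option linter.unusedSectionVars false
set_option backward.isDefEq.respectTransparency false
set_option backward.isDefEq.respectTransparency.types false

universe u

open CategoryTheory CategoryTheory.Limits CategoryTheory.Pretriangulated Opposite

namespace Groth.Agent.EpsCmp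

attribute [local instance] HasDerivedCategory.standard

variable {C : Type u} [SmallCategory C] {J J' : GrothendieckTopology C} (h : J' ≤ J) (O : Sheaf J CommRingCat.{u})

instance full_push : (SiteCmp.eps h O).push.Full where
  map_surjective {M N} φ := by
    refine ⟨⟨PresheafOfModules.homMk ((PresheafOfModules.toPresheaf _).map φ.val) fun X r m => ?_⟩, ?_⟩
    · exact (φ.val.app X).hom.map_smul r m
    · ext X m
      rfl

instance faithful_push : (SiteCmp.eps h O).push.Faithful where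
  map_injective {M N} φ ψ e := by
    ext X m
    exact congrArg (fun (g : (SiteCmp.eps h O).push.obj M ⟶ (SiteCmp.eps h O).push.obj N) => g.val.app X m) e

/-- Surjectivity on a generating class of objects gives an epimorphism. -/
theorem epi_of_surjective_on {K : GrothendieckTopology C} {O' : Sheaf K CommRingCat.{u}} {M N : ModSite.Mod O'}
    (φ : M ⟶ N) (B : Set C)
    (hB : ∀ U : C, ∃ (ι : Type u) (Y : ι → C) (g : ∀ i, Y i ⟶ U), Sieve.ofArrows Y g ∈ K U ∧ ∀ i, Y i ∈ B)
    (hs : ∀ U ∈ B, Function.Surjective (φ.val.app (op U))) : Epi φ := by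
  haveI : Sheaf.IsLocallySurjective ((SheafOfModules.toSheaf.{u} (ModSite.ringSh O')).map φ) := by
    refine ⟨fun {U} s => ?_⟩
    change N.val.obj (op U) at s
    obtain ⟨ι, Y, p, hp, hY⟩ := hB U
    refine K.superset_covering ?_ hp
    rintro V q ⟨W, a, b, ⟨i⟩, rfl⟩
    obtain ⟨t, ht⟩ := hs _ (hY i) (N.val.map (p i).op s)
    refine ⟨M.val.map a.op t, ?_⟩
    change φ.val.app (op V) (M.val.map a.op t) = N.val.map (a ≫ p i).op s
    rw [PresheafOfModules.naturality_apply, ht, op_comp, N.val.map_comp_apply]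
  haveI : Epi ((SheafOfModules.toSheaf.{u} (ModSite.ringSh O')).map φ) :=
    (Sheaf.isLocallySurjective_iff_epi' _ _).1 inferInstance
  exact (SheafOfModules.toSheaf.{u} (ModSite.ringSh O')).epi_of_epi_map inferInstance

variable (A : ObjectProperty (ModSite.Mod O)) [WSerre.IsWeakSerre A] (B : Set C)
  (h3 : ∀ U : C, ∃ (ι : Type u) (Y : ι → C) (g : ∀ i, Y i ⟶ U), Sieve.ofArrows Y g ∈ J' U ∧ ∀ i, Y i ∈ B)
  (h4 : ∀ U ∈ B, ∀ F : ModSite.Mod O, A F → ∀ p : ℕ, 0 < p → Subsingleton (ModSite.HU O F p U))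

include h3 h4

/-- `ε_*` is exact on short exact sequences with first term in `A`. -/
theorem shortExact_push {S : ShortComplex (ModSite.Mod O)} (hS : S.ShortExact) (h₁ : A S.X₁) :
    (S.map (SiteCmp.eps h O).push).ShortExact := by
  haveI := hS.mono_f
  haveI := hS.epi_g
  haveI : PreservesFiniteLimits (SiteCmp.eps h O).push :=
    haveI : PreservesLimitsOfSize.{0, 0} (SiteCmp.eps h O).push := (SiteCmp.eps h O).adj.rightAdjoint_preservesLimits
    PreservesLimitsOfSize.preservesFiniteLimits _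
  haveI : Epi (S.map (SiteCmp.eps h O).push).g :=
    epi_of_surjective_on ((SiteCmp.eps h O).push.map S.g) B h3 fun U hU =>
      SiteCoh.surjective_sections U (hS.map_of_exact (SheafOfModules.toSheaf.{u} (ModSite.ringSh O)))
        (h4 U hU _ h₁ 1 one_pos)
  haveI : Mono (S.map (SiteCmp.eps h O).push).f := inferInstanceAs (Mono ((SiteCmp.eps h O).push.map S.f))
  exact ShortComplex.ShortExact.mk' (hS.exact.map_of_mono_of_preservesKernel _ inferInstance inferInstance)
    inferInstance inferInstance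

/-- The essential image of `A` under `ε_*` is a weak Serre subcategory. -/
theorem isWeakSerre_map [PreservesFiniteLimits (SiteCmp.eps h O).pull] :
    WSerre.IsWeakSerre (A.map (SiteCmp.eps h O).push) := by
  haveI : PreservesFiniteLimits (SiteCmp.eps h O).push :=
    haveI : PreservesLimitsOfSize.{0, 0} (SiteCmp.eps h O).push := (SiteCmp.eps h O).adj.rightAdjoint_preservesLimits
    PreservesLimitsOfSize.preservesFiniteLimits _
  haveI : PreservesFiniteColimits (SiteCmp.eps h O).pull := inferInstance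
  let ε := (SiteCmp.eps h O).push
  refine { exists_zero := ?_, kernels_le := ?_, cokernels_le := ?_, prop_X₂_of_shortExact := ?_ }
  · obtain ⟨Z, hZ, hAZ⟩ := A.exists_prop_of_containsZero
    exact ⟨ε.obj Z, ε.map_isZero hZ, A.prop_map_obj ε hAZ⟩
  · rintro _ ⟨f, k, hk, ⟨⟨F, hF, ⟨e⟩⟩, ⟨G, hG, ⟨e'⟩⟩⟩⟩
    let ψ := ε.preimage (e.hom ≫ f ≫ e'.inv)
    refine (A.map ε).prop_of_iso ?_ (A.prop_map_obj ε (A.prop_kernel ψ hF hG))
    exact PreservesKernel.iso ε ψ ≪≫
      kernel.mapIso (ε.map ψ) f e e' (by simp [ψ, ε]) ≪≫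
      IsLimit.conePointUniqueUpToIso (limit.isLimit _) hk
  · rintro _ ⟨f, k, hk, ⟨⟨F, hF, ⟨e⟩⟩, ⟨G, hG, ⟨e'⟩⟩⟩⟩
    let ψ := ε.preimage (e.hom ≫ f ≫ e'.inv)
    have hK : A (kernel ψ) := A.prop_kernel ψ hF hG
    have hQ : A (cokernel ψ) := A.prop_cokernel ψ hF hG
    have hI : A (Abelian.image ψ) := A.prop_kernel _ hG hQ
    have hs₁ : (ShortComplex.mk (kernel.ι ψ) (Abelian.factorThruImage ψ)
        (by rw [← cancel_mono (Abelian.image.ι ψ)]; simp)).ShortExact := by
      refine ShortComplex.ShortExact.mk' ?_ inferInstance inferInstance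
      exact ShortComplex.exact_of_f_is_kernel _
        (isKernelOfComp _ _ (kernelIsKernel ψ) _ (Abelian.image.fac ψ))
    have hs₂ : (ShortComplex.mk (Abelian.image.ι ψ) (cokernel.π ψ) (kernel.condition _)).ShortExact :=
      ShortComplex.ShortExact.mk' (ShortComplex.exact_of_f_is_kernel _ (kernelIsKernel _)) inferInstance inferInstance
    have hε₁ := shortExact_push h O A B h3 h4 hs₁ hK
    have hε₂ := shortExact_push h O A B h3 h4 hs₂ hI
    haveI : Epi (ε.map (Abelian.factorThruImage ψ)) := hε₁.epi_g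
    have hc : IsColimit (CokernelCofork.ofπ (f := ε.map ψ) (ε.map (cokernel.π ψ))
        (by rw [← ε.map_comp, cokernel.condition, ε.map_zero])) :=
      isCokernelEpiComp hε₂.gIsCokernel (ε.map (Abelian.factorThruImage ψ))
        (by change ε.map ψ = ε.map _ ≫ ε.map _; rw [← ε.map_comp, Abelian.image.fac])
    refine (A.map ε).prop_of_iso ?_ (A.prop_map_obj ε hQ)
    exact IsColimit.coconePointUniqueUpToIso hc (cokernelIsCokernel _) ≪≫
      cokernel.mapIso (ε.map ψ) f e e' (by simp [ψ, ε]) ≪≫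
      IsColimit.coconePointUniqueUpToIso (colimit.isColimit _) hk
  · intro S hS hh₁ hh₃
    obtain ⟨F, hF, ⟨e⟩⟩ := hh₁
    obtain ⟨G, hG, ⟨e'⟩⟩ := hh₃
    let adj := (SiteCmp.eps h O).adj
    haveI : IsIso adj.counit := adj.counit_isIso_of_R_fully_faithful
    have hP : A ((SiteCmp.eps h O).pull.obj S.X₂) :=
      A.prop_X₂_of_shortExact (hS.map_of_exact (SiteCmp.eps h O).pull)
        (A.prop_of_iso ((asIso (adj.counit.app F)).symm ≪≫ (SiteCmp.eps h O).pull.mapIso e) hF)
        (A.prop_of_iso ((asIso (adj.counit.app G)).symm ≪≫ (SiteCmp.eps h O).pull.mapIso e') hG)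
    have hP₁ : A ((SiteCmp.eps h O).pull.obj S.X₁) :=
      A.prop_of_iso ((asIso (adj.counit.app F)).symm ≪≫ (SiteCmp.eps h O).pull.mapIso e) hF
    have hu : ∀ {X : ModSite.Mod (SiteCmp.epsRing h O)} {Y : ModSite.Mod O}, (ε.obj Y ≅ X) →
        IsIso (adj.unit.app X) := fun {X Y} i => by
      haveI : IsIso (adj.unit.app (ε.obj Y) ≫ ε.map (adj.counit.app Y)) := by
        rw [adj.right_triangle_components]; infer_instance
      haveI : IsIso (adj.unit.app (ε.obj Y)) := IsIso.of_isIso_comp_right _ (ε.map (adj.counit.app Y))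
      exact (NatTrans.isIso_app_iff_of_iso adj.unit i).1 inferInstance
    haveI := hu e
    haveI := hu e'
    let φ : S ⟶ ((S.map (SiteCmp.eps h O).pull).map ε) :=
      { τ₁ := adj.unit.app _, τ₂ := adj.unit.app _, τ₃ := adj.unit.app _
        comm₁₂ := (adj.unit.naturality S.f).symm
        comm₂₃ := (adj.unit.naturality S.g).symm }
    haveI : IsIso φ.τ₁ := inferInstanceAs (IsIso (adj.unit.app S.X₁))
    haveI : IsIso φ.τ₃ := inferInstanceAs (IsIso (adj.unit.app S.X₃))
    have := ShortComplex.isIso₂_of_shortExact_of_isIso₁₃ φ hS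
      (shortExact_push h O A B h3 h4 (hS.map_of_exact (SiteCmp.eps h O).pull) hP₁)
    exact (A.map ε).prop_of_iso (asIso φ.τ₂).symm (A.prop_map_obj ε hP)

variable [SiteCmp.HasRpushD (SiteCmp.eps h O)]

/-- `Rε_*` of an object of `A` lives in degree `0`. -/
theorem isLE_rpushD (F : ModSite.Mod O) (hF : A F) :
    ((SiteCmp.RpushD (SiteCmp.eps h O)).obj (SiteCmp.inD O F)).IsLE 0 := by
  rw [DerivedCategory.isLE_iff]
  intro m hm
  rw [IsZero.iff_id_eq_zero]
  refine (SiteRlim.localGen_genMod (SiteCmp.epsRing h O)).gen _ fun U ψ => ?_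
  rw [Category.comp_id]
  obtain ⟨S, hS, hS'⟩ := SiteRlim.locally_exists_θ (SiteRlim.localGen_genMod (SiteCmp.epsRing h O)) ψ
  refine (SiteRlim.localGen_genMod (SiteCmp.epsRing h O)).sep _ S hS fun {V} g hg => ?_
  obtain ⟨f, hf⟩ := hS' g hg
  obtain ⟨R, hR, hR'⟩ := SiteRlim.factor_of_cover B h3 V
  refine (SiteRlim.localGen_genMod (SiteCmp.epsRing h O)).sep _ R hR fun {W} q hq => ?_
  obtain ⟨Y, a, b, hY, rfl⟩ := hR' q hq
  have : Subsingleton ((DerivedCategory.singleFunctor _ m).obj ((SiteRlim.genMod (SiteCmp.epsRing h O)).obj Y) ⟶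
      (SiteCmp.RpushD (SiteCmp.eps h O)).obj (SiteCmp.inD O F)) := by
    obtain ⟨k, hk⟩ : ∃ k : ℕ, 0 + (k : ℤ) = m := ⟨m.toNat, by omega⟩
    exact SitePAdj.subsingleton_hom_rpushD (SiteCmp.eps h O) Y m (SiteCmp.inD O F)
      (SiteRlim.subsingleton_hom_single m 0 k hk
        (SiteRlim.subsingleton_ext_freeOn O _ F k (h4 Y hY F hF k (by omega))))
  rw [Functor.map_comp, Category.assoc, ← hf, ← SiteRlim.θ_pre, Subsingleton.elim (_ ≫ f) 0]
  simp [SiteRlim.θ]

/-- The unit is invertible on `ε_* A` in degree `0`. -/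
theorem isIso_unit_inD [PreservesFiniteLimits (SiteCmp.eps h O).pull]
    (adj : SiteCmp.pullD (SiteCmp.eps h O) ⊣ SiteCmp.RpushD (SiteCmp.eps h O))
    (M : ModSite.Mod (SiteCmp.epsRing h O)) (hM : (A.map (SiteCmp.eps h O).push) M) :
    IsIso (adj.unit.app (SiteCmp.inD (SiteCmp.epsRing h O) M)) := by
  obtain ⟨F, hF, ⟨e⟩⟩ := hM
  let f := SiteCmp.eps h O
  let SD := DerivedCategory.singleFunctor (ModSite.Mod (SiteCmp.epsRing h O)) 0
  let SC := DerivedCategory.singleFunctor (ModSite.Mod O) 0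
  haveI : IsIso f.adj.counit := f.adj.counit_isIso_of_R_fully_faithful
  let eL : ∀ N, (SiteCmp.pullD f).obj (SD.obj N) ≅ SC.obj (f.pull.obj N) :=
    fun N => (f.pull.mapDerivedCategorySingleFunctor 0).app N
  let i : (SiteCmp.pullD f).obj (SD.obj M) ≅ SiteCmp.inD O F :=
    eL M ≪≫ SC.mapIso (f.pull.mapIso e.symm ≪≫ (asIso (f.adj.counit.app F)))
  let Z := (SiteCmp.RpushD f).obj ((SiteCmp.pullD f).obj (SD.obj M))
  have hZi : Z ≅ (SiteCmp.RpushD f).obj (SiteCmp.inD O F) := (SiteCmp.RpushD f).mapIso i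
  haveI := isLE_rpushD h O A B h3 h4 F hF
  haveI := RpushTrunc.isGE_rpushD f (SiteCmp.inD O F) 0 inferInstance
  obtain ⟨M', ⟨e'⟩⟩ := DerivedCategory.exists_iso_singleFunctor_obj_of_isGE_of_isLE
    ((SiteCmp.RpushD f).obj (SiteCmp.inD O F)) 0
  let E : Z ≅ SD.obj M' := hZi ≪≫ e'
  let η : SD.obj M ⟶ Z := adj.unit.app (SD.obj M)
  let u : M ⟶ M' := SD.preimage (η ≫ E.hom)
  have key : ∀ N, Function.Bijective (fun g : N ⟶ M => g ≫ u) := by
    intro N
    -- `f^*` is bijective on maps into `M`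
    have hpull : Function.Bijective (fun g : N ⟶ M => f.pull.map g) := by
      have : (fun g : N ⟶ M => f.pull.map g) =
          (fun k => k ≫ inv (f.pull.map e.symm.hom ≫ f.adj.counit.app F)) ∘
            (f.adj.homEquiv N F).symm ∘ (fun g => g ≫ e.inv) := by
        funext g
        simp [Adjunction.homEquiv_counit]
      rw [this]
      exact ((asIso (f.pull.map e.symm.hom ≫ f.adj.counit.app F)).symm.homToEquiv.bijective).comp
        ((Equiv.bijective _).comp (e.symm.homToEquiv.bijective))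
    let Ψ : (N ⟶ M) → (SD.obj N ⟶ SD.obj M') := fun g => SD.map g ≫ η ≫ E.hom
    have hΨ : Function.Bijective Ψ := by
      have hh : Ψ = (fun k => k ≫ E.hom) ∘ adj.homEquiv (SD.obj N) ((SiteCmp.pullD f).obj (SD.obj M)) ∘
          (fun k => (eL N).hom ≫ k ≫ (eL M).inv) ∘ (fun g => SC.map g) ∘ fun g => f.pull.map g := by
        funext g
        have hn : (SiteCmp.pullD f).map (SD.map g) ≫ (eL M).hom = (eL N).hom ≫ SC.map (f.pull.map g) :=
          (f.pull.mapDerivedCategorySingleFunctor 0).hom.naturality g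
        simp only [Function.comp_apply, Ψ, ← reassoc_of% hn, Iso.hom_inv_id, Category.comp_id]
        rw [Adjunction.homEquiv_unit, ← Category.assoc]
        exact congrArg (· ≫ E.hom) (adj.unit.naturality (SD.map g))
      rw [hh]
      exact (E.homToEquiv.bijective).comp ((Equiv.bijective _).comp
        ((((eL N).symm.homCongr (eL M).symm).bijective).comp
          (Function.Bijective.comp (g := fun k => SC.map k) ⟨SC.map_injective, SC.map_surjective⟩ hpull)))
    have hu : Ψ = (fun x => SD.map x) ∘ (fun g : N ⟶ M => g ≫ u) := by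
      funext g
      simp [Ψ, u]
    rw [hu] at hΨ
    exact (Function.Bijective.of_comp_iff' ⟨SD.map_injective, SD.map_surjective⟩ _).1 hΨ
  haveI : IsIso u := by
    obtain ⟨v, hv⟩ := (key M').2 (𝟙 M')
    exact ⟨v, (key M).1 (by simp only [Category.assoc]; rw [show v ≫ u = 𝟙 M' from hv, Category.id_comp, Category.comp_id]), hv⟩
  haveI : IsIso (η ≫ E.hom) := by
    rw [← SD.map_preimage (η ≫ E.hom)]
    infer_instance
  exact IsIso.of_isIso_comp_right η E.hom

end Groth.Agent.EpsCmp
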